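import Groth.Agent.L08.HomSpace.Quot
import Groth.Agent.L08.CartierRed
import Groth.Agent.L01.NormalHopf
import Mathlib.RingTheory.HopfAlgebra.Quotient
import Mathlib.RingTheory.Filtration

/-!
# Frobenius neighbourhoods of the origin of an affine group and detection by infinitesimal subgroups
-/

set_option autoImplicit false
set_option linter.style.haveILetI false
set_option backward.isDefEq.respectTransparency.types false

universe u

open CategoryTheory MonoidalCategory CartesianMonoidalCategory MonObj AlgebraicGeometry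
open TensorProduct WithConv Groth.L08 Groth.L01.NormalHopf

noncomputable section

namespace Groth.L08.FinSubIso

variable {k : Type u} [Field k] {A : Type u} [CommRing A] [HopfAlgebra k A]

/-- the ideal generated by the `p^N`-th powers of the augmentation ideal -/
abbrev frobIdeal (k : Type u) [Field k] (A : Type u) [CommRing A] [HopfAlgebra k A] (q : ℕ) : Ideal A :=
  Ideal.span ((fun a : A => a ^ q) '' (RingHom.ker (Bialgebra.counitAlgHom k A) : Set A))

theorem isHopfIdeal_frobIdeal (p : ℕ) [hp : Fact p.Prime] [CharP k p] (N : ℕ) :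
    (frobIdeal k A (p ^ N)).IsHopfIdeal k := by
  have hq : p ^ N ≠ 0 := pow_ne_zero _ hp.out.ne_zero
  haveI : Nontrivial A := RingHom.domain_nontrivial (Bialgebra.counitAlgHom k A).toRingHom
  haveI : CharP A p := charP_of_injective_algebraMap (algebraMap k A).injective p
  let ε2 : A ⊗[k] A →ₐ[k] k :=
    Algebra.TensorProduct.lift (Bialgebra.counitAlgHom k A) (Bialgebra.counitAlgHom k A) fun _ _ => Commute.all _ _
  haveI : CharP (A ⊗[k] A) p := by
    haveI : Nontrivial (A ⊗[k] A) := RingHom.domain_nontrivial ε2.toRingHom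
    exact charP_of_injective_algebraMap (algebraMap k (A ⊗[k] A)).injective p
  set J := frobIdeal k A (p ^ N)
  let π : A →ₐ[k] A ⧸ J := Ideal.Quotient.mkₐ k J
  have mk_pow : ∀ x : A, Ideal.Quotient.mk J (x ^ p ^ N) =
      algebraMap k _ (Bialgebra.counitAlgHom k A x ^ p ^ N) := fun x => by
    rw [← Ideal.Quotient.mk_algebraMap, Ideal.Quotient.eq, map_pow, ← sub_pow_char_pow]
    exact Ideal.subset_span ⟨_, by simp, rfl⟩
  have key : ∀ w : A ⊗[k] A, Algebra.TensorProduct.map π π (w ^ p ^ N) = algebraMap k _ (ε2 w ^ p ^ N) := by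
    intro w
    induction w with
    | zero => simp [zero_pow hq]
    | add a b ha hb => rw [add_pow_char_pow, map_add, ha, hb, map_add, add_pow_char_pow, map_add]
    | tmul x y =>
      rw [Algebra.TensorProduct.tmul_pow, Algebra.TensorProduct.map_tmul]
      change Ideal.Quotient.mk J (x ^ p ^ N) ⊗ₜ[k] Ideal.Quotient.mk J (y ^ p ^ N) = _
      rw [mk_pow, mk_pow, show ε2 (x ⊗ₜ y) = Bialgebra.counitAlgHom k A x * Bialgebra.counitAlgHom k A y from
        Algebra.TensorProduct.lift_tmul _ _ _ _ _, mul_pow, Algebra.algebraMap_eq_smul_one,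
        Algebra.algebraMap_eq_smul_one, TensorProduct.smul_tmul_smul, ← Algebra.TensorProduct.one_def,
        Algebra.algebraMap_eq_smul_one]
  have hε2 : ∀ a, ε2 (Bialgebra.comulAlgHom k A a) = Bialgebra.counitAlgHom k A a := by
    intro a
    have : ∀ w : A ⊗[k] A, ε2 w = Bialgebra.counitAlgHom k A
        (TensorProduct.lid k A ((Coalgebra.counit (R := k) (A := A)).rTensor A w)) := by
      intro w
      induction w with
      | zero => simp
      | add a b ha hb => simp only [map_add, ha, hb]
      | tmul x y => simp [ε2]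
    rw [this, Bialgebra.comulAlgHom_apply, Coalgebra.rTensor_counit_comul, TensorProduct.lid_tmul, one_smul]
  have hle : J ≤ RingHom.ker (Bialgebra.counitAlgHom k A) := Ideal.span_le.2 (by
    rintro _ ⟨a, ha, rfl⟩
    exact Ideal.pow_mem_of_mem _ ha _ (Nat.pos_of_ne_zero hq))
  refine { toIsCoideal := ⟨fun x hx => hle hx, fun x hx => ?_⟩, antipode_mem := fun x hx => ?_ }
  · let F : A →ₐ[k] (A ⧸ J) ⊗[k] (A ⧸ J) := (Algebra.TensorProduct.map π π).comp (Bialgebra.comulAlgHom k A)
    have hF : J ≤ RingHom.ker F := Ideal.span_le.2 (by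
      rintro _ ⟨a, ha, rfl⟩
      show Algebra.TensorProduct.map π π (Bialgebra.comulAlgHom k A (a ^ p ^ N)) = 0
      rw [map_pow (Bialgebra.comulAlgHom k A), key, hε2, show Bialgebra.counitAlgHom k A a = 0 from ha,
        zero_pow hq, map_zero])
    have h0 : F x = 0 := hF hx
    exact h0
  · have : J ≤ J.comap (HopfAlgebra.antipodeAlgHom k A) := Ideal.span_le.2 (by
      rintro _ ⟨a, ha, rfl⟩
      show HopfAlgebra.antipodeAlgHom k A (a ^ p ^ N) ∈ J
      rw [map_pow]
      exact Ideal.subset_span ⟨_, (HopfAlgebra.counit_antipode (R := k) a).trans ha, rfl⟩)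
    exact this hx

/-- an algebra of finite type in which the kernel of a point consists of nilpotents is finite -/
theorem finite_of_isNilpotent {C : Type u} [CommRing C] [Algebra k C] [Algebra.FiniteType k C] (e : C →ₐ[k] k)
    (h : ∀ c, e c = 0 → IsNilpotent c) : Module.Finite k C := by
  haveI : Algebra.IsIntegral k C := ⟨fun c => by
    obtain ⟨n, hn⟩ := h (c - algebraMap k C (e c)) (by simp)
    have h0 : _root_.IsIntegral k (c - algebraMap k C (e c)) :=
      ⟨Polynomial.X ^ (n + 1), Polynomial.monic_X_pow _, by simp [pow_succ, hn]⟩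
    simpa using h0.add (isIntegral_algebraMap (x := e c))⟩
  exact Algebra.IsIntegral.finite

theorem finite_quotient_frobIdeal [Algebra.FiniteType k A] (q : ℕ) (hq : 0 < q) :
    Module.Finite k (A ⧸ frobIdeal k A q) := by
  haveI : Algebra.FiniteType k (A ⧸ frobIdeal k A q) :=
    Algebra.FiniteType.of_surjective (Ideal.Quotient.mkₐ k _) Ideal.Quotient.mk_surjective
  have hle : ∀ a ∈ frobIdeal k A q, Bialgebra.counitAlgHom k A a = 0 := by
    intro a ha
    refine (Ideal.span_le (I := RingHom.ker (Bialgebra.counitAlgHom k A)).2 ?_ ha :)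
    rintro _ ⟨b, hb, rfl⟩
    exact Ideal.pow_mem_of_mem _ hb _ hq
  refine finite_of_isNilpotent (Ideal.Quotient.liftₐ _ (Bialgebra.counitAlgHom k A) hle) fun c hc => ?_
  obtain ⟨a, rfl⟩ := Ideal.Quotient.mk_surjective c
  refine ⟨q, ?_⟩
  rw [← map_pow, Ideal.Quotient.eq_zero_iff_mem]
  exact Ideal.subset_span ⟨a, hc, rfl⟩

variable {K : Type u} [Field K] [Algebra k K] [IsAlgClosed K] [Algebra.IsAlgebraic k K]

omit [Algebra.IsAlgebraic k K] in
/-- a finitely generated Hopf algebra with one geometric point is finite -/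
theorem finite_of_subsingleton_points [Algebra.FiniteType k A]
    (h : ∀ x : A →ₐ[k] K, x = (Algebra.ofId k K).comp (Bialgebra.counitAlgHom k A)) : Module.Finite k A := by
  refine finite_of_isNilpotent (Bialgebra.counitAlgHom k A) fun c hc => ?_
  haveI : IsJacobsonRing A := isJacobsonRing_of_finiteType (A := k)
  refine mem_nilradical.1 ?_
  rw [nilradical, Ideal.radical_eq_jacobson, Ideal.jacobson, Ideal.mem_sInf]
  rintro m ⟨-, hm⟩
  haveI := hm
  letI := Ideal.Quotient.field m
  haveI : Algebra.FiniteType k (A ⧸ m) :=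
    Algebra.FiniteType.of_surjective (Ideal.Quotient.mkₐ k m) Ideal.Quotient.mk_surjective
  haveI : Module.Finite k (A ⧸ m) := finite_of_finite_type_of_isJacobsonRing k (A ⧸ m)
  let θ : A ⧸ m →ₐ[k] K := IsAlgClosed.lift
  have := congr($(h (θ.comp (Ideal.Quotient.mkₐ k m))) c)
  rw [AlgHom.comp_apply, AlgHom.comp_apply, show Bialgebra.counitAlgHom k A c = 0 from hc, map_zero,
    Ideal.Quotient.mkₐ_eq_mk, map_eq_zero, Ideal.Quotient.eq_zero_iff_mem] at this
  exact this

/-- a set of points closed under the group law containing all geometric points and all infinitesimal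
neighbourhoods of the origin is everything -/
theorem eq_zero_of_points [Algebra.FiniteType k A] (I : Ideal A)
    (hmul : ∀ (R : Type u) [CommRing R] [Algebra k R] (g h : WithConv (A →ₐ[k] R)),
      (∀ a ∈ I, g.ofConv a = 0) → (∀ a ∈ I, h.ofConv a = 0) → ∀ a ∈ I, (g * h).ofConv a = 0)
    (hpt : ∀ (x : A →ₐ[k] K), ∀ a ∈ I, x a = 0)
    (hinf : ∀ (R : Type u) [CommRing R] [Algebra k R] (g : WithConv (A →ₐ[k] R)) (𝔪 : Ideal R) (n : ℕ),
      𝔪 ^ n = ⊥ → (∀ a, Bialgebra.counitAlgHom k A a = 0 → g.ofConv a ∈ 𝔪) → ∀ a ∈ I, g.ofConv a = 0) :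
    I = ⊥ := by
  refine eq_bot_iff.2 fun a ha => ?_
  let B := K ⊗[k] A
  let ι₂ : A →ₐ[k] B := Algebra.TensorProduct.includeRight
  have hinj : Function.Injective ι₂ := Algebra.TensorProduct.includeRight_injective (algebraMap k K).injective
  refine Ideal.mem_bot.2 (hinj ?_)
  rw [map_zero]
  by_contra hne
  let J : Ideal B := LinearMap.ker (LinearMap.toSpanSingleton B B (ι₂ a))
  have hJ : J ≠ ⊤ := fun h => hne (by
    have h1 : (1 : B) ∈ J := h ▸ trivial
    simpa [J] using h1)
  obtain ⟨m, hm, hJm⟩ := Ideal.exists_le_maximal J hJ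
  haveI := hm
  haveI : IsNoetherianRing B := Algebra.FiniteType.isNoetherianRing K B
  letI := Ideal.Quotient.field m
  haveI : Algebra.FiniteType K (B ⧸ m) :=
    Algebra.FiniteType.of_surjective (Ideal.Quotient.mkₐ K m) Ideal.Quotient.mk_surjective
  haveI : Module.Finite K (B ⧸ m) := finite_of_finite_type_of_isJacobsonRing K (B ⧸ m)
  have hbij : Function.Bijective (algebraMap K (B ⧸ m)) :=
    IsAlgClosed.algebraMap_bijective_of_isIntegral
  let θ : K ≃ₐ[K] B ⧸ m := AlgEquiv.ofBijective (Algebra.ofId K (B ⧸ m)) hbij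
  let x : A →ₐ[k] K := (θ.symm.toAlgHom.restrictScalars k).comp (((Ideal.Quotient.mkₐ K m).restrictScalars k).comp ι₂)
  -- `a` lies in every power of `m`
  have hpow : ∀ n : ℕ, ι₂ a ∈ m ^ n := by
    intro n
    rcases Nat.eq_zero_or_pos n with rfl | hn
    · simp
    let R := B ⧸ m ^ n
    let h : WithConv (A →ₐ[k] R) := toConv (((Ideal.Quotient.mkₐ K (m ^ n)).restrictScalars k).comp ι₂)
    let x' : WithConv (A →ₐ[k] R) := toConv (((Algebra.ofId K R).restrictScalars k).comp x)
    let π : R →ₐ[k] B ⧸ m := (Ideal.Quotient.factorₐ K (Ideal.pow_le_self hn.ne')).restrictScalars k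
    have hπ : toConv (π.comp h.ofConv) = toConv (π.comp x'.ofConv) := by
      refine congrArg toConv (AlgHom.ext fun c => ?_)
      show Ideal.Quotient.mk m (ι₂ c) = π (algebraMap K R (θ.symm (Ideal.Quotient.mk m (ι₂ c))))
      rw [show π (algebraMap K R (θ.symm (Ideal.Quotient.mk m (ι₂ c)))) =
        θ (θ.symm (Ideal.Quotient.mk m (ι₂ c))) from AlgHom.commutes (Ideal.Quotient.factorₐ K (Ideal.pow_le_self hn.ne')) _,
        AlgEquiv.apply_symm_apply]
    let g := h * pinv x'
    have hg : ∀ c, Bialgebra.counitAlgHom k A c = 0 → g.ofConv c ∈ m.map (Ideal.Quotient.mk (m ^ n)) := by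
      intro c hc
      have h1 : toConv (π.comp g.ofConv) = 1 := by
        rw [post_mul, hπ, ← post_mul, mul_pinv]
        exact WithConv.ofConv_injective (AlgHom.ext fun c' => π.commutes _)
      have h2 : π (g.ofConv c) = 0 := by
        have := congr($(congrArg WithConv.ofConv h1) c)
        simp only [AlgHom.comp_apply] at this
        rw [this]
        show algebraMap k _ (Bialgebra.counitAlgHom k A c) = 0
        rw [hc, map_zero]
      obtain ⟨b, hb⟩ := Ideal.Quotient.mk_surjective (g.ofConv c)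
      rw [← hb] at h2 ⊢
      exact Ideal.mem_map_of_mem _ (Ideal.Quotient.eq_zero_iff_mem.1 h2)
    have hI := hinf R g (m.map (Ideal.Quotient.mk (m ^ n))) n (by rw [← Ideal.map_pow, Ideal.map_quotient_self]) hg
    have hh : h = g * x' := by rw [show g * x' = h * (pinv x' * x') from _root_.mul_assoc h (pinv x') x', pinv_mul]; exact (_root_.mul_one h).symm
    have h0 := hmul R g x' hI (fun c hc => by
      show algebraMap K R (x c) = 0
      rw [hpt x c hc, map_zero]) a ha
    rw [← hh] at h0
    exact Ideal.Quotient.eq_zero_iff_mem.1 h0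
  -- Krull intersection at `m`
  let L := Localization.AtPrime m
  have hbot := Ideal.iInf_pow_eq_bot_of_isLocalRing (R := L) _ (IsLocalRing.maximalIdeal.isMaximal L).ne_top
  have hz : algebraMap B L (ι₂ a) = 0 := by
    refine (Submodule.mem_bot (R := L)).1 (hbot.le (Submodule.mem_iInf _ |>.2 fun n => ?_))
    rw [← Localization.AtPrime.map_eq_maximalIdeal, ← Ideal.map_pow]
    exact Ideal.mem_map_of_mem _ (hpow n)
  obtain ⟨⟨s, hs⟩, hsa⟩ := (IsLocalization.map_eq_zero_iff m.primeCompl L _).1 hz
  exact hs (hJm (by simpa [J] using hsa))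

open CategoryTheory AlgebraicGeometry in
/-- the inclusion of a Hopf quotient is a homomorphism and a closed immersion -/
theorem exists_subgroup_of_hopfIdeal {A : Type u} [CommRing A] [HopfAlgebra k A] (J : Ideal A) [J.IsHopfIdeal k] :
    ∃ i : HomSpace.specOf k (A ⧸ J) ⟶ HomSpace.specOf k A,
      i = Spec.mapMulEquiv (toConv (Ideal.Quotient.mkₐ k J)) ∧ IsMonHom i ∧ IsClosedImmersion i.left := by
  have e : ((Bialgebra.Quotient.mkBialgHom (R := k) J : A →ₐc[k] A ⧸ J) : A →ₐ[k] A ⧸ J) = Ideal.Quotient.mkₐ k J :=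
    AlgHom.ext fun _ => rfl
  refine ⟨_, rfl, ?_, IsClosedImmersion.spec_of_surjective (CommRingCat.ofHom (Ideal.Quotient.mk J)) Ideal.Quotient.mk_surjective⟩
  rw [← e]
  exact isMonHom_mapMulEquiv _

end Groth.L08.FinSubIso
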